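import Cfsg.Agent.Lib.Recog.J1FromOrder.Centre
import Mathlib

/-!
Owner: helper19. Walter, field part with `q₁ = 5`: the primes `7`, `11`, `19` in a simple group of order `175560`.

* `card_centralizer_two`: every involution has centraliser of order `120`;
* `centralizer_eq`: an element of order `p` generates its centraliser;
* `exists_aut`: some element induces on it an automorphism of even order at least six.
-/

set_option autoImplicit false

namespace CfsgLib.Walter.Field.Five

open Subgroup CfsgLib.Orders175560 CfsgLib.Recog.J1FromOrder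
open scoped Pointwise

universe u

variable {H : Type u} [Group H] [Finite H] [IsSimpleGroup H] (hH : Nat.card H = 175560)

include hH in
/-- Every involution has centraliser of order `120`. -/
theorem card_centralizer_two {u : H} (hu : orderOf u = 2) :
    Nat.card (centralizer ({u} : Set H)) = 120 := by
  obtain ⟨t, ht, h120, -⟩ := card_centre hH
  obtain ⟨g, hg⟩ := isConj_iff.1 (involutions_conj hH t u ht hu)
  have e : centralizer ({u} : Set H) = (centralizer ({t} : Set H)).map (MulAut.conj g).toMonoidHom := by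
    ext x
    rw [mem_map_equiv]
    simp only [mem_centralizer_singleton_iff, MulAut.conj_symm_apply, ← hg]
    constructor <;> intro h
    · calc g⁻¹ * x * g * t = g⁻¹ * (x * (g * t * g⁻¹)) * g := by group
        _ = g⁻¹ * (g * t * g⁻¹ * x) * g := by rw [h]
        _ = t * (g⁻¹ * x * g) := by group
    · calc x * (g * t * g⁻¹) = g * (g⁻¹ * x * g * t) * g⁻¹ := by group
        _ = g * (t * (g⁻¹ * x * g)) * g⁻¹ := by rw [h]
        _ = g * t * g⁻¹ * x := by group
  rw [e, card_map_of_injective (MulEquiv.injective _), h120]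

variable {p : ℕ} [hp : Fact p.Prime] (hp3 : p = 7 ∨ p = 11 ∨ p = 19)

include hH hp3 in
theorem dvd_card : p ∣ Nat.card H := by
  rw [hH]; rcases hp3 with rfl | rfl | rfl <;> norm_num

include hH hp3 in
theorem sq_not_dvd : ¬ p * p ∣ Nat.card H := by
  rw [hH]; rcases hp3 with rfl | rfl | rfl <;> norm_num

include hH hp3 in
theorem cOf_eq_one (P : Sylow p H) : cOf P = 1 := by
  have L := local_of_card hH
  haveI : Fact (Nat.Prime 7) := ⟨by norm_num⟩
  haveI : Fact (Nat.Prime 11) := ⟨by norm_num⟩
  haveI : Fact (Nat.Prime 19) := ⟨by norm_num⟩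
  have hs := L.small (cOf_five hH)
  have h12 : cOf P = 1 ∨ cOf P = 2 := by
    rcases hp3 with rfl | rfl | rfl
    · exact (hs P (Classical.arbitrary _) (Classical.arbitrary _)).1
    · exact (hs (Classical.arbitrary _) P (Classical.arbitrary _)).2.1
    · exact (hs (Classical.arbitrary _) (Classical.arbitrary _) P).2.2.1
  refine h12.resolve_right fun h2 => ?_
  have h1 := dvd_card hH hp3 (p := p)
  have h2' := sq_not_dvd hH hp3 (p := p)
  haveI : Fact (Nat.Prime 2) := ⟨Nat.prime_two⟩
  obtain ⟨u, hu⟩ := exists_prime_orderOf_dvd_card' (G := centralizer ((P : Subgroup H) : Set H)) 2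
    (by rw [Orders175560.card_centralizer h1 h2' P, h2]; exact dvd_mul_left 2 p)
  have hu' : orderOf (u : H) = 2 := by rwa [orderOf_coe]
  have hle : (P : Subgroup H) ≤ centralizer ({(u : H)} : Set H) := fun x hx =>
    mem_centralizer_singleton_iff.2 (mem_centralizer_iff.1 u.2 x hx)
  have hd := card_dvd_of_le hle
  rw [card_centralizer_two hH hu', card_sylow_eq_prime h1 h2' P] at hd
  rcases hp3 with rfl | rfl | rfl <;> omega

include hH hp3 in
theorem exists_sylow_eq {x : H} (hx : orderOf x = p) : ∃ P : Sylow p H, (P : Subgroup H) = zpowers x := by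
  obtain ⟨P, hP⟩ := (IsPGroup.of_card (G := zpowers x) (n := 1)
    (by rw [Nat.card_zpowers, hx, pow_one])).exists_le_sylow
  refine ⟨P, (eq_of_le_of_card_ge hP ?_).symm⟩
  rw [Nat.card_zpowers, hx, card_sylow_eq_prime (dvd_card hH hp3) (sq_not_dvd hH hp3) P]

include hH hp3 in
/-- An element of order `p` generates its centraliser. -/
theorem centralizer_eq {x : H} (hx : orderOf x = p) : centralizer ({x} : Set H) = zpowers x := by
  obtain ⟨P, hP⟩ := exists_sylow_eq hH hp3 hx
  have hC : centralizer ((P : Subgroup H) : Set H) = centralizer ({x} : Set H) := by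
    rw [hP, zpowers_eq_closure, centralizer_closure]
  refine (eq_of_le_of_card_ge (zpowers_le.2 (mem_centralizer_singleton_iff.2 rfl)) ?_).symm
  rw [← hC, Orders175560.card_centralizer (dvd_card hH hp3) (sq_not_dvd hH hp3) P, cOf_eq_one hH hp3 P,
    mul_one, Nat.card_zpowers, hx]

include hH hp3 in
/-- An element inducing an automorphism of order `e`, `e` even and at least six. -/
theorem exists_aut {x : H} (hx : orderOf x = p) :
    ∃ (g : H) (k e : ℕ), Even e ∧ 6 ≤ e ∧ g * x * g⁻¹ = x ^ k ∧ orderOf (k : ZMod p) = e := by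
  obtain ⟨P, hP⟩ := exists_sylow_eq hH hp3 hx
  have h1 := dvd_card hH hp3 (p := p)
  have h2 := sq_not_dvd hH hp3 (p := p)
  have hne : ¬ IsPGroup p H := fun h => by
    obtain ⟨n, hn⟩ := IsPGroup.iff_card.1 h
    have h3 : 3 ∣ p ^ n := hn ▸ hH ▸ (by norm_num)
    have := Nat.le_of_dvd hp.out.pos (by
      simpa using (Nat.prime_three.dvd_of_dvd_pow h3))
    have h3p := (Nat.prime_dvd_prime_iff_eq Nat.prime_three hp.out).1 (Nat.prime_three.dvd_of_dvd_pow h3)
    rcases hp3 with rfl | rfl | rfl <;> omega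
  obtain ⟨e, he1, hep, hre⟩ := exists_ratio h1 h2 P hne
  rw [cOf_eq_one hH hp3 P, mul_one] at hre
  have hmul := card_eq_mul h1 h2 P
  have hmod : Nat.card (Sylow p H) % p = 1 % p := card_sylow_modEq_one p H
  rw [hre, hH] at hmul
  generalize Nat.card (Sylow p H) = n at hmul hmod
  have he : Even e ∧ 6 ≤ e := by
    rcases hp3 with rfl | rfl | rfl <;>
      (have := Nat.le_of_dvd (by norm_num) hep
       interval_cases e <;> first | (exfalso; omega) | exact ⟨by decide, by norm_num⟩)
  -- the range of the action is cyclic of order `e`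
  set φ := (P : Subgroup H).normalizerMonoidHom with hφ
  have hrange : Nat.card φ.range = e := by
    rw [← index_ker, hφ, normalizerMonoidHom_ker]
    have h := relIndex_mul_relIndex (⊥ : Subgroup H) (centralizer ((P : Subgroup H) : Set H))
      (normalizer ((P : Subgroup H) : Set H)) bot_le (centralizer_le_normalizer _)
    rw [relIndex_bot_left, relIndex_bot_left, Orders175560.card_centralizer h1 h2 P,
      Orders175560.card_normalizer h1 h2 P, cOf_eq_one hH hp3 P, hre, mul_one] at h
    exact Nat.eq_of_mul_eq_mul_left hp.out.pos h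
  haveI : IsCyclic (P : Subgroup H) := isCyclic_of_prime_card (card_sylow_eq_prime h1 h2 P)
  let ψ : MulAut (P : Subgroup H) ≃* (ZMod p)ˣ :=
    ((IsCyclic.mulAutMulEquiv (P : Subgroup H)).trans
      (Units.mapEquiv (ZMod.ringEquivCongr (card_sylow_eq_prime h1 h2 P)).toMulEquiv))
  haveI : IsCyclic φ.range := by
    haveI : IsCyclic (MulAut (P : Subgroup H)) := isCyclic_of_surjective ψ.symm.toMonoidHom ψ.symm.surjective
    infer_instance
  obtain ⟨a, ha⟩ := IsCyclic.exists_ofOrder_eq_natCard (α := φ.range)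
  obtain ⟨g, hg⟩ := a.2
  have hao : orderOf (φ g) = e := by
    rw [hg, orderOf_coe, ha, hrange]
  have hxP : x ∈ (P : Subgroup H) := hP ▸ mem_zpowers x
  obtain ⟨k, hk⟩ : ∃ k : ℕ, (g : H) * x * (g : H)⁻¹ = x ^ k := by
    have hm := (mem_normalizer_iff.1 g.2 x).1 hxP
    replace hm : (g : H) * x * (g : H)⁻¹ ∈ zpowers x := hP.le hm
    rw [← mem_powers_iff_mem_zpowers] at hm
    obtain ⟨k, hk⟩ := hm
    exact ⟨k, hk.symm⟩
  refine ⟨g, k, e, he.1, he.2, hk, ?_⟩
  have hiter : ∀ j : ℕ, (g : H) ^ j * x * ((g : H) ^ j)⁻¹ = x ^ (k ^ j) := fun j => by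
    induction j with
    | zero => simp
    | succ j ih =>
      calc (g : H) ^ (j + 1) * x * ((g : H) ^ (j + 1))⁻¹
          = (g : H) * ((g : H) ^ j * x * ((g : H) ^ j)⁻¹) * (g : H)⁻¹ := by rw [pow_succ']; group
        _ = x ^ (k ^ (j + 1)) := by rw [ih, ← conj_pow, hk, ← pow_mul, pow_succ']
  rw [← hao]
  refine orderOf_eq_orderOf_iff.2 fun j => ?_
  rw [← Nat.cast_pow, ← map_pow, MulEquiv.ext_iff]
  constructor
  · intro h y
    refine Subtype.ext ?_
    obtain ⟨i, hi⟩ := mem_zpowers_iff.1 (show (y : H) ∈ zpowers x from hP ▸ y.2)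
    have hxk : x ^ (k ^ j) = x := by
      refine (pow_eq_pow_iff_modEq.2 ?_).trans (pow_one x)
      rw [hx, ← ZMod.natCast_eq_natCast_iff, Nat.cast_one]
      exact h
    show (g : H) ^ j * (y : H) * ((g : H) ^ j)⁻¹ = y
    rw [← hi, ← conj_zpow, hiter j, hxk]
  · intro h
    have h' := congrArg Subtype.val (h ⟨x, hxP⟩)
    change (g : H) ^ j * x * ((g : H) ^ j)⁻¹ = x at h'
    rw [hiter j] at h'
    have h'' := (pow_eq_pow_iff_modEq.1 (h'.trans (pow_one x).symm))
    rw [hx, ← ZMod.natCast_eq_natCast_iff, Nat.cast_one] at h''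
    exact h''

end CfsgLib.Walter.Field.Five
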