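import Cfsg.Agent.Lib.Recog.Walter.Field.Big.Level
import Cfsg.Agent.Lib.Recog.Walter.Field.Local
import Cfsg.Agent.Lib.Recog.JanType.Main
import Cfsg.Agent.Lib.Recog.JankoOneSimple
import Cfsg.Agent.Lib.Recog.J1FromOrder.Centre
import Cfsg.Agent.Lib.Classical.Dickson.ClassifyPlatonic

/-!
Owner: helper19. Walter, field part with fixed field of five elements: `C(f)/⟨f⟩` is Janko's group.

* `cent_equiv`: the centraliser of `t` in `C(f)/⟨f⟩` is `Z₂ × A₅`;
* `level`: `C(f)/⟨f⟩` is simple of order `175560`.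
-/

set_option autoImplicit false
set_option linter.all false

namespace CfsgLib.Walter.Field.Five

open Subgroup
open CfsgLib.Recog.JankoThompson (P2)
open CfsgLib.Recog.J1Order (Mdl model_two_element card_model)

universe u

variable {G : Type u} [Group G] [Finite G] {t : G} {E L : Subgroup G} {F : Type} [Field F] [Fintype F]
  {h : Setting t E L F} {Φ : Subgroup G} {s₁ s₂ : G} {p b : ℕ} {f : G} {F₀ : Type} [Field F₀] [Fintype F₀]
  (T : Top h Φ s₁ s₂ p b f F₀) (h5 : Fintype.card F₀ = 5)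

include T in
/-- An element `a l` in `⟨f⟩` with `a ∈ ⟨t⟩`, `l ∈ L` is trivial. -/
theorem eq_one_of_mem_zpowers {a l : G} (ha : a ∈ zpowers t) (hl : l ∈ L) (hz : a * l ∈ zpowers f) :
    a = 1 ∧ l = 1 := by
  have hzΦ : a * l ∈ Φ := zpowers_le.2 T.mem hz
  have h1 : a ∈ zpowers t ⊓ E := ⟨ha, by
    rw [show a = a * l * l⁻¹ by rw [mul_inv_cancel_right]]
    exact mul_mem (T.galois.le hzΦ) (E.inv_mem (h.le hl))⟩
  rw [h.prod.2.2.2.1, mem_bot] at h1
  subst h1
  rw [one_mul] at hzΦ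
  have h2 : l ∈ Φ ⊓ L := ⟨hzΦ, hl⟩
  rw [T.galois.inf, mem_bot] at h2
  exact ⟨rfl, h2⟩

/-- A normal subgroup of `Z₂ × A₅` through the central involution and another element is everything. -/
theorem eq_top_of_normal_two (W : Subgroup Mdl) [W.Normal] {z x : Mdl} (hz : z ∈ W) (hx : x ∈ W)
    (hc : ∀ m : Mdl, m * z = z * m) (hz1 : z ≠ 1) (hxz : ¬ (x = 1 ∨ x = z)) : W = ⊤ := by
  have hz' := (CfsgLib.Recog.J1Order.model_center z hc).resolve_left hz1
  subst hz'
  have hx2 : x.2 ≠ 1 := fun e => by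
    rcases CfsgLib.Recog.J1FromOrder.two_elems.1 x.1 with e1 | e1
    · exact hxz (Or.inl (Prod.ext e1 e))
    · exact hxz (Or.inr (Prod.ext e1 e))
  have hA : ∀ a, ((1 : Multiplicative (ZMod 2)), a) ∈ W := by
    have hinr : (1, x.2) ∈ W := by
      rcases CfsgLib.Recog.J1FromOrder.two_elems.1 x.1 with e1 | e1
      · rwa [show ((1 : Multiplicative (ZMod 2)), x.2) = x from Prod.ext e1.symm rfl]
      · rw [show ((1 : Multiplicative (ZMod 2)), x.2) = ((Multiplicative.ofAdd 1, 1) : Mdl) * x from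
          Prod.ext (by show (1 : Multiplicative (ZMod 2)) = _ * x.1; rw [e1]; rfl) (one_mul _).symm]
        exact mul_mem hz hx
    haveI : IsSimpleGroup ↥(alternatingGroup (Fin 5)) := alternatingGroup.isSimpleGroup (by norm_num)
    intro a
    have htop := ((inferInstance : W.Normal).comap (MonoidHom.inr (Multiplicative (ZMod 2)) _)).eq_bot_or_eq_top.resolve_left
      (fun e => hx2 ((eq_bot_iff_forall _).1 e _ (mem_comap.2 hinr)))
    exact mem_comap.1 (htop ▸ mem_top a)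
  refine eq_top_iff.2 fun m _ => ?_
  rw [show m = (m.1, 1) * ((1 : Multiplicative (ZMod 2)), m.2) from Prod.ext (mul_one _).symm (one_mul _).symm]
  refine mul_mem ?_ (hA _)
  rcases CfsgLib.Recog.J1FromOrder.two_elems.1 m.1 with e | e <;> rw [e]
  · exact one_mem W
  · exact hz

include T h5

/-- With a fixed field of five elements `n` is the order of `f`. -/
theorem n_eq : h.n = p ^ b := by
  obtain ⟨m, hm, -⟩ := T.part
  haveI := T.galois.cyclic
  obtain ⟨a, ha⟩ := IsCyclic.exists_ofOrder_eq_natCard (α := ↥Φ)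
  obtain ⟨F₁, i₁, i₂, hcard, -⟩ := T.galois.fixed (a : G) a.2
  rw [orderOf_coe, ha, T.galois.card, T.card, h5] at hcard
  have h5p : Nat.Prime 5 := by norm_num
  obtain ⟨j, -, hj⟩ := (Nat.dvd_prime_pow h5p).1
    ((dvd_pow_self (Fintype.card F₁) h.n_pos.ne').trans (dvd_of_eq hcard.symm))
  rw [hj, ← pow_mul] at hcard
  have e : p ^ b = j * h.n := Nat.pow_right_injective (by norm_num) hcard
  exact Nat.dvd_antisymm ⟨j, by rw [e, mul_comm]⟩ ⟨m, hm⟩

/-- The image of `t` in `C(f)/⟨f⟩`. -/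
def tau (T : Top h Φ s₁ s₂ p b f F₀) (h5 : Fintype.card F₀ = 5) : Qf f :=
  QuotientGroup.mk' (Zf f) ⟨t, T.t_mem_Cf⟩

theorem tau_order : orderOf (tau T h5) = 2 := by
  haveI : Fact (Nat.Prime 2) := ⟨Nat.prime_two⟩
  refine orderOf_eq_prime ?_ fun e => ?_
  · rw [tau, ← map_pow]
    exact (congrArg (QuotientGroup.mk' (Zf f))
      (Subtype.ext (by push_cast; rw [← h.ord, pow_orderOf_eq_one]))).trans (map_one _)
  · have h1 : (⟨t, T.t_mem_Cf⟩ : ↥(Cf f)) ∈ Zf f := (QuotientGroup.eq_one_iff _).1 e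
    have h2 : orderOf t ∣ p ^ b := T.order ▸ orderOf_dvd_of_mem_zpowers (mem_subgroupOf.1 h1)
    rw [h.ord] at h2
    exact (Nat.not_even_iff_odd.2 T.odd_order) (even_iff_two_dvd.2 h2)

theorem card_psl : Nat.card (P2 F₀) = 60 := by
  have := T.two_card_psl
  rw [h5] at this
  omega

theorem card_cent : Nat.card ↥(centralizer ({tau T h5} : Set (Qf f))) = 120 := by
  have h1 : Nat.card ↥(centralizer ({tau T h5} : Set (Qf f))) * p ^ b = 2 * Nat.card (P2 F₀) * h.n :=
    T.card_cent_quot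
  rw [card_psl T h5, n_eq T h5] at h1
  exact Nat.eq_of_mul_eq_mul_right (pow_pos T.prime.pos b) h1

/-- The centraliser of `t` in `C(f)/⟨f⟩` is `Z₂ × A₅`. -/
theorem cent_equiv : Nonempty (↥(centralizer ({tau T h5} : Set (Qf f))) ≃* Mdl) := by
  classical
  set τ := tau T h5 with hτ
  set π := QuotientGroup.mk' (Zf f) with hπ
  set Lf := L ⊓ centralizer ({f} : Set G) with hLf
  obtain ⟨e₁⟩ := T.iso
  obtain ⟨e₂⟩ := CfsgLib.Classical.Dickson.psl_four_five_equiv (K := F₀) (Or.inr h5)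
  have hLC : Lf ≤ Cf f := fun x hx => hx.2
  have hLt : ∀ x ∈ Lf, x * t = t * x := fun x hx => h.comm (h.le hx.1)
  have htC : zpowers τ ≤ centralizer ({τ} : Set (Qf f)) :=
    zpowers_le.2 (mem_centralizer_singleton_iff.2 rfl)
  have hlC : ((Lf.subgroupOf (Cf f)).map π) ≤ centralizer ({τ} : Set (Qf f)) := by
    rintro _ ⟨x, hx, rfl⟩
    refine mem_centralizer_singleton_iff.2 ?_
    rw [hτ, tau, ← hπ, ← map_mul, ← map_mul]
    exact congrArg π (Subtype.ext (hLt _ (mem_subgroupOf.1 hx)))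
  let f₁ : ↥(zpowers τ) →* Qf f := (zpowers τ).subtype
  let f₂ : ↥Lf →* Qf f := π.comp (inclusion hLC)
  have hcomm : ∀ (a : ↥(zpowers τ)) (l : ↥Lf), Commute (f₁ a) (f₂ l) := fun a l => by
    obtain ⟨i, hi⟩ := mem_zpowers_iff.1 a.2
    have h1 : Commute τ (f₂ l) := (mem_centralizer_singleton_iff.1
      (hlC ⟨inclusion hLC l, mem_subgroupOf.2 l.2, rfl⟩)).symm
    show Commute (a : Qf f) _
    rw [← hi]
    exact h1.zpow_left i
  let ψ : ↥(zpowers τ) × ↥Lf →* Qf f := MonoidHom.noncommCoprod f₁ f₂ hcomm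
  have hinj : Function.Injective ψ := by
    rw [injective_iff_map_eq_one]
    rintro ⟨⟨a, ha⟩, l⟩ he
    have he' : a * π (inclusion hLC l) = 1 := he
    obtain ⟨i, rfl⟩ := mem_zpowers_iff.1 ha
    rw [hτ, tau, ← hπ, ← map_zpow, ← map_mul] at he'
    have hz : t ^ i * (l : G) ∈ zpowers f :=
      mem_subgroupOf.1 ((QuotientGroup.eq_one_iff (N := Zf f) _).1 he')
    have hu := eq_one_of_mem_zpowers T (zpow_mem (mem_zpowers t) i) l.2.1 hz
    refine Prod.ext (Subtype.ext ?_) (Subtype.ext hu.2)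
    show τ ^ i = 1
    rw [hτ, tau, ← map_zpow]
    exact (congrArg π (Subtype.ext (by push_cast; exact hu.1))).trans (map_one π)
  have hrange : ψ.range = centralizer ({τ} : Set (Qf f)) := by
    refine eq_of_le_of_card_ge ?_ ?_
    · rintro _ ⟨⟨a, l⟩, rfl⟩
      exact mul_mem (htC a.2) (hlC ⟨inclusion hLC l, mem_subgroupOf.2 l.2, rfl⟩)
    · rw [← Nat.card_congr (MonoidHom.ofInjective hinj).toEquiv, Nat.card_prod, Nat.card_zpowers, hτ,
        tau_order T h5, card_cent T h5, Nat.card_congr e₁.toEquiv, card_psl T h5]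
  let z : ↥(zpowers τ) ≃* Multiplicative (ZMod 2) := by
    haveI : Fact (Nat.Prime 2) := ⟨Nat.prime_two⟩
    exact mulEquivOfPrimeCardEq (p := 2) (by rw [Nat.card_zpowers, hτ, tau_order T h5]) (by simp)
  exact ⟨((MulEquiv.subgroupCongr hrange).symm.trans (MonoidHom.ofInjective hinj).symm).trans
    (z.prodCongr (e₁.trans e₂.symm))⟩

/-- A conjugate of `t` in `L ∩ C(f)`. -/
theorem exists_conj_L : ∃ c : G, c ∈ Cf f ∧ c * t * c⁻¹ = s₁ := by
  obtain ⟨S, htS, -, -, hfix⟩ := T.galois.exists_sylow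
  obtain ⟨c, hc, hct⟩ := T.galois.exists_conj htS hfix T.mem T.galois.four.hv (T.galois.fix f T.mem).1.symm
  exact ⟨c, mem_Cf.2 hc, hct⟩

/-- `C(f)/⟨f⟩` is simple of order `175560`. -/
theorem level : IsSimpleGroup (Qf f) ∧ Nat.card (Qf f) = 175560 := by
  classical
  haveI : Fact (Nat.Prime 2) := ⟨Nat.prime_two⟩
  obtain ⟨e⟩ := cent_equiv T h5
  set τ := tau T h5 with hτ
  set π := QuotientGroup.mk' (Zf f) with hπ
  set D := centralizer ({τ} : Set (Qf f)) with hD
  -- a Sylow 2-subgroup of `Q` in the centraliser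
  obtain ⟨P⟩ : Nonempty (Sylow 2 ↥D) := inferInstance
  have hP : Nat.card ↥(P : Subgroup ↥D) = 8 := by
    rw [P.card_eq_multiplicity, card_cent T h5]
    have h3 := (Nat.prime_two.pow_dvd_iff_le_factorization (k := 3) (show 120 ≠ 0 by norm_num)).1 (by norm_num)
    have h4 : ¬ 4 ≤ Nat.factorization 120 2 := fun h4 => by
      have := (Nat.prime_two.pow_dvd_iff_le_factorization (k := 4) (show 120 ≠ 0 by norm_num)).2 h4
      norm_num at this
    rw [show Nat.factorization 120 2 = 3 by omega]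
    norm_num
  set P' := (P : Subgroup ↥D).map D.subtype with hP'
  have hP8 : Nat.card ↥P' = 8 := by rw [hP', card_map_of_injective D.subtype_injective, hP]
  obtain ⟨S, hS⟩ := (P.2.map D.subtype : IsPGroup 2 ↥P').exists_le_sylow
  have hSP : (S : Subgroup (Qf f)) = P' := by
    refine (eq_of_le_of_card_ge hS ?_).symm
    rw [hP8]
    obtain ⟨S₀, htS₀, -, -, -⟩ := T.galois.exists_sylow
    obtain ⟨h8, -, -⟩ := CfsgLib.Walter.Sections.jr_card h.jr S₀ htS₀ h.loc
    have hd : Nat.card (Qf f) ∣ Nat.card G :=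
      ((Zf f).card_quotient_dvd_card).trans (card_subgroup_dvd_card _)
    have h1 : Nat.card ↥(S : Subgroup (Qf f)) ∣ Nat.card G := (card_subgroup_dvd_card _).trans hd
    obtain ⟨k, hk⟩ := IsPGroup.iff_card.1 S.2
    rw [hk] at h1 ⊢
    have h2 : 2 ^ k ∣ Nat.card ↥(S₀ : Subgroup G) := by
      rw [S₀.card_eq_multiplicity]
      exact pow_dvd_pow 2 ((Nat.prime_two.pow_dvd_iff_le_factorization Nat.card_pos.ne').1 h1)
    rw [h8] at h2
    exact Nat.le_of_dvd (by norm_num) h2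
  have hτD : τ ∈ D := mem_centralizer_singleton_iff.2 rfl
  have hcen : ∀ x ∈ D, x * τ = τ * x := fun x hx => mem_centralizer_singleton_iff.1 hx
  have hτP : τ ∈ P' := by
    haveI : (zpowers (⟨τ, hτD⟩ : ↥D)).Normal := ⟨fun z hz a => by
      obtain ⟨i, rfl⟩ := mem_zpowers_iff.1 hz
      have hc : Commute a (⟨τ, hτD⟩ : ↥D) := Subtype.ext (hcen _ a.2)
      rw [(hc.zpow_right i).eq, mul_inv_cancel_right]
      exact zpow_mem (mem_zpowers _) i⟩
    have hz : IsPGroup 2 ↥(zpowers (⟨τ, hτD⟩ : ↥D)) :=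
      IsPGroup.of_card (n := 1) (by rw [Nat.card_zpowers, Subgroup.orderOf_mk, hτ, tau_order T h5, pow_one])
    have hsup := P.3 (hz.to_sup_of_normal_left P.2) le_sup_right
    exact ⟨⟨τ, hτD⟩, hsup.le (mem_sup_left (mem_zpowers _)), rfl⟩
  -- the weak closure
  have hwc : CfsgLib.Recog.JanType.wc τ = D := by
    refine le_antisymm (CfsgLib.Recog.JanType.wc_le_centralizer τ) ?_
    set W := ((CfsgLib.Recog.JanType.wc τ).subgroupOf D).map e.toMonoidHom with hW
    haveI hn : ((CfsgLib.Recog.JanType.wc τ).subgroupOf D).Normal := ⟨fun x hx a => mem_subgroupOf.2 (by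
      have h1 := CfsgLib.Recog.JanType.wc_conj_mem (g := (a : Qf f)) (mem_subgroupOf.1 hx)
      rwa [hcen _ a.2, mul_inv_cancel_right] at h1)⟩
    haveI : W.Normal := hn.map e.toMonoidHom e.surjective
    suffices W = ⊤ by
      intro x hx
      obtain ⟨y, hy, hye⟩ : e ⟨x, hx⟩ ∈ W := this ▸ mem_top _
      have hye' : y = ⟨x, hx⟩ := e.injective hye
      rw [hye'] at hy
      exact mem_subgroupOf.1 hy
    obtain ⟨c, hc, hct⟩ := exists_conj_L T h5
    have hs₁C : s₁ ∈ Cf f := mem_Cf.2 (T.galois.fix f T.mem).1.symm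
    have hσ : π ⟨s₁, hs₁C⟩ = π ⟨c, hc⟩ * τ * (π ⟨c, hc⟩)⁻¹ := by
      rw [hτ, tau, ← hπ, ← map_inv, ← map_mul, ← map_mul]
      exact congrArg π (Subtype.ext hct.symm)
    have hσD : π ⟨s₁, hs₁C⟩ ∈ D := mem_centralizer_singleton_iff.2 (by
      rw [hτ, tau, ← hπ, ← map_mul, ← map_mul]
      exact congrArg π (Subtype.ext (h.comm (h.le T.galois.mem₁))))
    have hσW : e ⟨_, hσD⟩ ∈ W := ⟨⟨_, hσD⟩, mem_subgroupOf.2 (subset_closure ⟨_, hσ, hcen _ hσD⟩), rfl⟩
    have hτW : e ⟨τ, hτD⟩ ∈ W :=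
      ⟨⟨τ, hτD⟩, mem_subgroupOf.2 (CfsgLib.Recog.JanType.mem_wc_self τ), rfl⟩
    refine eq_top_of_normal_two W hτW hσW ?_ ?_ ?_
    · intro x
      rw [← e.apply_symm_apply x, ← map_mul, ← map_mul]
      exact congrArg e (Subtype.ext (hcen _ (e.symm x).2))
    · intro he
      rw [e.map_eq_one_iff] at he
      have h1 := tau_order T h5
      rw [← hτ, show τ = 1 from congrArg Subtype.val he, orderOf_one] at h1
      norm_num at h1
    · intro he
      have h2 : π ⟨s₁, hs₁C⟩ ∈ zpowers τ := by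
        rcases he with he | he
        · rw [e.map_eq_one_iff] at he
          rw [show π ⟨s₁, hs₁C⟩ = 1 from congrArg Subtype.val he]
          exact one_mem _
        · rw [show π ⟨s₁, hs₁C⟩ = τ from congrArg Subtype.val (e.injective he)]
          exact mem_zpowers _
      obtain ⟨i, hi⟩ := mem_zpowers_iff.1 h2
      rw [hτ, tau, ← hπ, ← map_zpow, QuotientGroup.mk'_eq_mk'] at hi
      obtain ⟨z, hz, hze⟩ := hi
      have hze' : t ^ i * (z : G) = s₁ := by simpa using congrArg Subtype.val hze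
      have hu := eq_one_of_mem_zpowers T (inv_mem (zpow_mem (mem_zpowers t) i)) T.galois.mem₁
        (show (t ^ i)⁻¹ * s₁ ∈ zpowers f by
          rw [← hze', inv_mul_cancel_left]; exact mem_subgroupOf.1 hz)
      exact CfsgLib.Signalizer.involution_ne_one T.galois.four.hv hu.2
  obtain ⟨eJ⟩ := CfsgLib.Recog.JanType.iso_normalClosure τ (tau_order T h5) S (hSP ▸ hτP)
    (fun s hs => hcen s (map_subtype_le _ (hSP ▸ hs : s ∈ P'))) ((MulEquiv.subgroupCongr hwc).trans e)
  set M := normalClosure ({τ} : Set (Qf f)) with hM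
  have hMc : Nat.card ↥M = 175560 := (Nat.card_congr eJ.toEquiv).trans CfsgLib.Recog.JankoOne.card_eq
  haveI := CfsgLib.Recog.JankoOne.isSimpleGroup
  haveI : IsSimpleGroup ↥M := eJ.isSimpleGroup
  have hτM : τ ∈ M := subset_normalClosure (Set.mem_singleton τ)
  have hDM : D ≤ M := by
    rw [← hwc, CfsgLib.Recog.JanType.wc, closure_le]
    rintro x ⟨a, hx, -⟩
    show x ∈ M
    rw [hx]
    exact normalClosure_normal.conj_mem τ hτM a
  have htop : M = ⊤ := eq_top_iff.2 fun q _ => by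
    obtain ⟨m, hm⟩ := isConj_iff.1 (CfsgLib.Recog.J1FromOrder.involutions_conj hMc
      (⟨q * τ * q⁻¹, normalClosure_normal.conj_mem τ hτM q⟩ : ↥M) ⟨τ, hτM⟩
      (by rw [Subgroup.orderOf_mk, ← MulAut.conj_apply, MulEquiv.orderOf_eq, hτ, tau_order T h5])
      (by rw [Subgroup.orderOf_mk, hτ, tau_order T h5]))
    have hm' : (m : Qf f) * (q * τ * q⁻¹) * (m : Qf f)⁻¹ = τ := congrArg Subtype.val hm
    have h1 : (m : Qf f) * q ∈ M := hDM (mem_centralizer_singleton_iff.2 (mul_inv_eq_iff_eq_mul.1 (by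
      rw [show (m : Qf f) * q * τ * ((m : Qf f) * q)⁻¹ = (m : Qf f) * (q * τ * q⁻¹) * (m : Qf f)⁻¹ by group,
        hm'])))
    simpa using M.mul_mem (M.inv_mem m.2) h1
  have e' : ↥M ≃* Qf f := (MulEquiv.subgroupCongr htop).trans Subgroup.topEquiv
  exact ⟨e'.symm.isSimpleGroup, (Nat.card_congr e'.toEquiv).symm.trans hMc⟩

end CfsgLib.Walter.Field.Five
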