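import Cfsg.Agent.Lib.Recog.Walter.Field.Big.Transfer
import Cfsg.Agent.Lib.Recog.Walter.Field.Local

/-!
Owner: helper19 (after helper22's `Big/Transfer.lean`). Walter, field part, any fixed field: `p` divides the number of
involutions of `C(f)`, the index of `C(t) ∩ C(f)` in `C(f)`.
-/

set_option autoImplicit false
set_option linter.all false

namespace CfsgLib.Walter.Field.Five

open Subgroup

universe u

variable {G : Type u} [Group G] [Finite G] {t : G} {E L : Subgroup G} {F : Type} [Field F] [Fintype F]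
  {h : Setting t E L F} {Φ : Subgroup G} {s₁ s₂ : G} {p b : ℕ} {f : G} {F₀ : Type} [Field F₀] [Fintype F₀]

/-- In a simple group `p` divides the number of involutions of `C(f)`. -/
theorem p_dvd_index (T : Top h Φ s₁ s₂ p b f F₀) :
    p ∣ ((centralizer ({t} : Set G)).subgroupOf (Cf f)).index := by
  classical
  haveI : Fact p.Prime := ⟨T.prime⟩
  obtain ⟨S, htS, -, -, hfixS⟩ := T.galois.exists_sylow
  have hconj : ∀ {s : G}, orderOf s = 2 → s ∈ Cf f → ∃ u ∈ Cf f, u * s * u⁻¹ = t := fun {s} hs hsf => by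
    obtain ⟨c, hc, hct⟩ := T.galois.exists_conj htS hfixS T.mem hs (mem_Cf.1 hsf)
    exact ⟨c⁻¹, inv_mem (mem_Cf.2 hc), by rw [← hct]; group⟩
  set H := centralizer ({t} : Set G) with hH
  obtain ⟨χ, hχf, hχsmall⟩ := exists_char T
  set V := MonoidHom.transfer χ with hV
  haveI := h.simple
  have hV1 : V f = 1 := by
    rcases (inferInstance : V.ker.Normal).eq_bot_or_eq_top with e | e
    · refine absurd ?_ h.not_comm
      exact ⟨⟨fun a b => (MonoidHom.ker_eq_bot_iff V).1 e (by rw [map_mul, map_mul, mul_comm])⟩⟩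
    · exact MonoidHom.mem_ker.1 (e ▸ mem_top f)
  haveI : Fintype (Quotient (MulAction.orbitRel (zpowers f) (G ⧸ H))) := Fintype.ofFinite _
  rw [hV, MonoidHom.transfer_eq_prod_quotient_orbitRel_zpowers_quot] at hV1
  set per : Quotient (MulAction.orbitRel (zpowers f) (G ⧸ H)) → ℕ := fun q =>
    Function.minimalPeriod (f • ·) q.out with hper
  have hfb : f ^ p ^ b = 1 := T.order ▸ pow_orderOf_eq_one f
  have hfix : ∀ {g : G}, f • (g : G ⧸ H) = (g : G ⧸ H) ↔ g⁻¹ * f * g ∈ H := fun {g} => by
    rw [eq_comm, MulAction.Quotient.smul_coe, QuotientGroup.eq, smul_eq_mul, mul_assoc]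
  have hval : ∀ q, χ ⟨q.out.out⁻¹ * f ^ per q * q.out.out,
      QuotientGroup.out_conj_pow_minimalPeriod_mem H f q.out⟩ =
        if per q = 1 then χ ⟨f, h.le_centralizer T.f_mem_E⟩ else 1 := by
    intro q
    have hdvd : per q ∣ p ^ b := by
      refine Function.IsPeriodicPt.minimalPeriod_dvd ?_
      show (f • ·)^[p ^ b] q.out = q.out
      rw [smul_iterate]
      show f ^ p ^ b • q.out = q.out
      rw [hfb, one_smul]
    split_ifs with h1
    · set g := q.out.out with hg
      have hgH : g⁻¹ * f * g ∈ H := by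
        have := QuotientGroup.out_conj_pow_minimalPeriod_mem H f q.out
        rwa [show Function.minimalPeriod (f • ·) q.out = 1 from h1, pow_one] at this
      have hs : orderOf (g * t * g⁻¹) = 2 := by rw [← MulAut.conj_apply, MulEquiv.orderOf_eq, h.ord]
      have hsf : g * t * g⁻¹ ∈ Cf f := mem_Cf.2 (by
        have h2 : g⁻¹ * f * g * t = t * (g⁻¹ * f * g) := mem_centralizer_singleton_iff.1 hgH
        calc g * t * g⁻¹ * f = g * (t * (g⁻¹ * f * g)) * g⁻¹ := by group
          _ = g * (g⁻¹ * f * g * t) * g⁻¹ := by rw [h2]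
          _ = f * (g * t * g⁻¹) := by group)
      obtain ⟨u, hu, hut⟩ := hconj hs hsf
      have hc : u * g ∈ H := mem_centralizer_singleton_iff.2 (mul_inv_eq_iff_eq_mul.1 (by
        rw [show u * g * t * (u * g)⁻¹ = u * (g * t * g⁻¹) * u⁻¹ by group, hut]))
      have hf' : u⁻¹ * f * u = f := by rw [mul_assoc, ← mem_Cf.1 hu, inv_mul_cancel_left]
      have he : (⟨g⁻¹ * f ^ per q * g, QuotientGroup.out_conj_pow_minimalPeriod_mem H f q.out⟩ : ↥H) =
          (⟨u * g, hc⟩ : ↥H)⁻¹ * ⟨f, h.le_centralizer T.f_mem_E⟩ * ⟨u * g, hc⟩ := Subtype.ext (by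
        push_cast
        rw [h1, pow_one, mul_inv_rev, show g⁻¹ * u⁻¹ * f * (u * g) = g⁻¹ * (u⁻¹ * f * u) * g by group, hf'])
      rw [he, map_mul, map_mul, mul_comm, ← mul_assoc, ← map_mul, mul_inv_cancel, map_one, one_mul]
    · refine hχsmall _ ?_
      obtain ⟨j, -, hj⟩ := (Nat.dvd_prime_pow T.prime).1 hdvd
      have hj0 : j ≠ 0 := fun e => h1 (by rw [hj, e, pow_zero])
      show (q.out.out⁻¹ * f ^ per q * q.out.out) ^ p ^ (b - 1) = 1
      rw [show q.out.out⁻¹ * f ^ per q * q.out.out = q.out.out⁻¹ * f ^ per q * (q.out.out⁻¹)⁻¹ by rw [inv_inv],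
        conj_pow, ← pow_mul, hj, ← pow_add]
      have : f ^ p ^ (j + (b - 1)) = 1 :=
        orderOf_dvd_iff_pow_eq_one.1 (T.order ▸ pow_dvd_pow p (by omega))
      rw [this]; group
  rw [Finset.prod_congr rfl fun q _ => hval q, Finset.prod_ite, Finset.prod_const, Finset.prod_const, one_pow,
    mul_one] at hV1
  -- the fixed cosets
  have hcount : (Finset.univ.filter fun q => per q = 1).card = (H.subgroupOf (Cf f)).index := by
    rw [← Fintype.card_subtype, ← Nat.card_eq_fintype_card, index_eq_card]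
    have hper1 : ∀ q, per q = 1 ↔ f • q.out = q.out := fun q => Function.minimalPeriod_eq_one_iff_isFixedPt
    have hone : ∀ x : G ⧸ H, f • x = x → ∀ k : zpowers f, k • x = x := fun x hx ⟨k, hk⟩ => by
      obtain ⟨i, rfl⟩ := mem_zpowers_iff.1 hk
      exact (zpow_mem (show f ∈ MulAction.stabilizer G x from hx) i : f ^ i ∈ MulAction.stabilizer G x)
    refine Nat.card_congr (Equiv.trans (β := {x : G ⧸ H // f • x = x}) ?_ ?_)
    · refine
        { toFun := fun q => ⟨q.1.out, (hper1 q.1).1 q.2⟩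
          invFun := fun x => ⟨Quotient.mk'' x.1, ?_⟩
          left_inv := fun q => Subtype.ext (Quotient.out_eq' q.1)
          right_inv := fun x => Subtype.ext ?_ }
      · rw [hper1]
        obtain ⟨k, hk⟩ : (Quotient.mk'' x.1 : Quotient (MulAction.orbitRel (zpowers f) (G ⧸ H))).out ∈
            MulAction.orbit (zpowers f) x.1 := MulAction.orbitRel_apply.1 (Quotient.exact' (Quotient.out_eq' _))
        rw [← hk, show (fun m : zpowers f => m • x.1) k = x.1 from hone x.1 x.2 k, x.2]
      · obtain ⟨k, hk⟩ : (Quotient.mk'' x.1 : Quotient (MulAction.orbitRel (zpowers f) (G ⧸ H))).out ∈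
            MulAction.orbit (zpowers f) x.1 := MulAction.orbitRel_apply.1 (Quotient.exact' (Quotient.out_eq' _))
        exact hk.symm.trans (hone x.1 x.2 k)
    · refine (Equiv.ofBijective (fun c : ↥(Cf f) ⧸ H.subgroupOf (Cf f) =>
        (⟨Quotient.liftOn' c (fun u => ((u : G) : G ⧸ H)) ?_, ?_⟩ : {x : G ⧸ H // f • x = x})) ⟨?_, ?_⟩).symm
      · intro u v huv
        exact QuotientGroup.eq.2 (mem_subgroupOf.1 (QuotientGroup.leftRel_apply.1 huv))
      · induction c using Quotient.inductionOn' with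
        | h u =>
          show f • ((u : G) : G ⧸ H) = ((u : G) : G ⧸ H)
          rw [hfix, mul_assoc, ← mem_Cf.1 u.2, inv_mul_cancel_left]
          exact h.le_centralizer T.f_mem_E
      · intro c d
        induction c using Quotient.inductionOn' with
        | h u =>
          induction d using Quotient.inductionOn' with
          | h v =>
            intro e
            exact QuotientGroup.eq.2 (mem_subgroupOf.2 (QuotientGroup.eq.1 (congrArg Subtype.val e)))
      · rintro ⟨x, hx⟩
        obtain ⟨g, rfl⟩ := QuotientGroup.mk_surjective x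
        have hg := hfix.1 hx
        have hs : orderOf (g * t * g⁻¹) = 2 := by rw [← MulAut.conj_apply, MulEquiv.orderOf_eq, h.ord]
        have hsf : g * t * g⁻¹ ∈ Cf f := mem_Cf.2 (by
          have h2 : g⁻¹ * f * g * t = t * (g⁻¹ * f * g) := mem_centralizer_singleton_iff.1 hg
          calc g * t * g⁻¹ * f = g * (t * (g⁻¹ * f * g)) * g⁻¹ := by group
            _ = g * (g⁻¹ * f * g * t) * g⁻¹ := by rw [h2]
            _ = f * (g * t * g⁻¹) := by group)
        obtain ⟨u, hu, hut⟩ := hconj hs hsf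
        refine ⟨QuotientGroup.mk (⟨u, hu⟩⁻¹ : ↥(Cf f)), Subtype.ext (QuotientGroup.eq.2 ?_)⟩
        show ((u⁻¹ : G))⁻¹ * g ∈ H
        rw [inv_inv]
        exact mem_centralizer_singleton_iff.2 (mul_inv_eq_iff_eq_mul.1 (by
          rw [show u * g * t * (u * g)⁻¹ = u * (g * t * g⁻¹) * u⁻¹ by group, hut]))
  rw [hcount] at hV1
  -- hence `p` divides the number of involutions
  exact by
    have h1 := orderOf_dvd_of_pow_eq_one hV1
    have h2 : orderOf (χ ⟨f, h.le_centralizer T.f_mem_E⟩) = p :=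
      orderOf_eq_prime (by rw [← toAdd_eq_zero, toAdd_pow, nsmul_eq_mul, ZMod.natCast_self, zero_mul]) hχf
    rwa [h2] at h1

end CfsgLib.Walter.Field.Five
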