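import Cfsg.Agent.Lib.Recog.Walter.Field.Five.Level
import Cfsg.Agent.Lib.Recog.Walter.Field.Five.Transfer
import Cfsg.Agent.Lib.Recog.Walter.Field.Five.JankoOne
import Cfsg.Agent.Lib.Recog.Walter.Field.PPart.Transfer

/-!
Owner: helper19. Walter, field part: `StepFive`.

* `p_mem`: `p ∈ {7, 11, 19}`, as `p` divides the `1463` involutions of `C(f)`;
* `exists_ppart`: the hypotheses of the `p`-local half from Janko's group;
* `stepFive`.
-/

set_option autoImplicit false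
set_option linter.all false

namespace CfsgLib.Walter.Field.Five

open Subgroup

universe u

variable {G : Type u} [Group G] [Finite G] {t : G} {E L : Subgroup G} {F : Type} [Field F] [Fintype F]
  {h : Setting t E L F} {Φ : Subgroup G} {s₁ s₂ : G} {p b : ℕ} {f : G} {F₀ : Type} [Field F₀] [Fintype F₀]
  (T : Top h Φ s₁ s₂ p b f F₀) (h5 : Fintype.card F₀ = 5)

include T h5

theorem card_Zf : Nat.card ↥(Zf f) = p ^ b := by
  rw [Zf, Nat.card_congr (subgroupOfEquivOfLe (show zpowers f ≤ Cf f from zpowers_le.2 (mem_Cf.2 rfl))).toEquiv,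
    Nat.card_zpowers, T.order]

/-- `p` is one of `7`, `11`, `19`. -/
theorem p_mem : p = 7 ∨ p = 11 ∨ p = 19 := by
  have h1 := ((centralizer ({t} : Set G)).subgroupOf (Cf f)).card_mul_index
  have hc : Nat.card ↥((centralizer ({t} : Set G)).subgroupOf (Cf f)) = 120 * p ^ b := by
    rw [show 120 * p ^ b = 2 * Nat.card (CfsgLib.Recog.JankoThompson.P2 F₀) * h.n by
      rw [card_psl T h5, n_eq T h5], ← T.card_cent]
    exact Nat.card_congr
      { toFun := fun x => ⟨x.1.1, mem_subgroupOf.1 x.2, x.1.2⟩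
        invFun := fun x => ⟨⟨x.1, x.2.2⟩, mem_subgroupOf.2 x.2.1⟩
        left_inv := fun x => rfl
        right_inv := fun x => rfl }
  have h2 := (Zf f).card_mul_index
  rw [card_Zf T h5, index_eq_card, show Nat.card (↥(Cf f) ⧸ Zf f) = 175560 from (level T h5).2] at h2
  rw [hc, ← h2] at h1
  have hidx : ((centralizer ({t} : Set G)).subgroupOf (Cf f)).index = 1463 :=
    Nat.eq_of_mul_eq_mul_left (pow_pos T.prime.pos b) (by linarith)
  have hd := p_dvd_index T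
  rw [hidx, show 1463 = 7 * (11 * 19) by norm_num] at hd
  rcases (Nat.Prime.dvd_mul T.prime).1 hd with h7 | h'
  · exact Or.inl ((Nat.prime_dvd_prime_iff_eq T.prime (by norm_num)).1 h7)
  · rcases (Nat.Prime.dvd_mul T.prime).1 h' with h11 | h19
    · exact Or.inr (Or.inl ((Nat.prime_dvd_prime_iff_eq T.prime (by norm_num)).1 h11))
    · exact Or.inr (Or.inr ((Nat.prime_dvd_prime_iff_eq T.prime (by norm_num)).1 h19))

/-- In Janko's group an element of order `p` inverted by a given involution `τ`, and an element of `C(τ)` inducing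
on it an automorphism of order at least six. -/
theorem exists_frame [Fact p.Prime] :
    ∃ (ξ γ : Qf f) (k : ℕ), orderOf ξ = p ∧ tau T h5 * ξ * (tau T h5)⁻¹ = ξ⁻¹ ∧ γ * tau T h5 = tau T h5 * γ ∧
      γ * ξ * γ⁻¹ = ξ ^ k ∧ (k : ZMod p) ^ 2 ≠ 1 := by
  obtain ⟨hs, hcard⟩ := level T h5
  haveI := hs
  have hp3 := p_mem T h5
  obtain ⟨x, hx⟩ := exists_prime_orderOf_dvd_card' (G := Qf f) p (dvd_card hcard hp3)
  obtain ⟨g, k, e, he, he6, hg, hk⟩ := exists_aut hcard hp3 hx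
  have hx1 : x ≠ 1 := fun h1 => Fact.out (p := p.Prime) |>.ne_one (by rw [← hx, h1, orderOf_one])
  have hiter : ∀ j : ℕ, g ^ j * x * (g ^ j)⁻¹ = x ^ (k ^ j) := fun j => by
    induction j with
    | zero => simp
    | succ j ih =>
      calc g ^ (j + 1) * x * (g ^ (j + 1))⁻¹ = g * (g ^ j * x * (g ^ j)⁻¹) * g⁻¹ := by rw [pow_succ']; group
        _ = x ^ (k ^ (j + 1)) := by rw [ih, ← conj_pow, hg, ← pow_mul, pow_succ']
  have hmod : ∀ (a : ℕ) (c : ℤ), (a : ZMod p) = (c : ZMod p) → x ^ a = x ^ c := fun a c e1 => by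
    rw [← zpow_natCast, zpow_eq_zpow_iff_modEq, hx, ← ZMod.intCast_eq_intCast_iff]
    simpa using e1
  -- `g ^ e` is trivial
  have hge : g ^ e = 1 := by
    have h1 : g ^ e ∈ centralizer ({x} : Set (Qf f)) := mem_centralizer_singleton_iff.2 (by
      have h2 := hiter e
      rw [hmod (k ^ e) 1 (by push_cast; rw [← hk, pow_orderOf_eq_one]), zpow_one] at h2
      exact mul_inv_eq_iff_eq_mul.1 h2)
    rw [centralizer_eq hcard hp3 hx] at h1
    obtain ⟨i, hi⟩ := mem_zpowers_iff.1 h1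
    have h2 : g * x ^ i * g⁻¹ = x ^ i := by rw [hi, ← pow_succ', pow_succ, mul_inv_cancel_right]
    rw [← conj_zpow, hg, ← zpow_natCast, ← zpow_mul, zpow_eq_zpow_iff_modEq, hx,
      ← ZMod.intCast_eq_intCast_iff] at h2
    have h3 : ((k : ZMod p) - 1) * (i : ZMod p) = 0 := by push_cast at h2; rw [sub_mul, h2, one_mul, sub_self]
    rcases mul_eq_zero.1 h3 with h3 | h3
    · rw [sub_eq_zero.1 h3, orderOf_one] at hk; omega
    · rw [← hi]
      obtain ⟨c, rfl⟩ := (ZMod.intCast_zmod_eq_zero_iff_dvd i p).1 h3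
      rw [zpow_mul, zpow_natCast, ← hx, pow_orderOf_eq_one, one_zpow]
  obtain ⟨j, hj⟩ := he
  have hkj : ((k : ZMod p)) ^ j = -1 := by
    have h1 : (((k : ZMod p)) ^ j) ^ 2 = 1 := by
      rw [← pow_mul, show j * 2 = e by omega, ← hk, pow_orderOf_eq_one]
    refine (sq_eq_one_iff.1 h1).resolve_left fun h2 => ?_
    have := orderOf_dvd_of_pow_eq_one h2
    rw [hk] at this
    have := Nat.le_of_dvd (by omega) this
    omega
  have hinv : g ^ j * x * (g ^ j)⁻¹ = x⁻¹ := by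
    rw [hiter, hmod (k ^ j) (-1) (by push_cast; rw [hkj]), zpow_neg_one]
  have huo : orderOf (g ^ j) = 2 := by
    haveI : Fact (Nat.Prime 2) := ⟨Nat.prime_two⟩
    refine orderOf_eq_prime (by rw [← pow_mul, show j * 2 = e by omega, hge]) fun h1 => ?_
    rw [h1, one_mul, inv_one, mul_one] at hinv
    have h2 : x ^ 2 = 1 := by rw [pow_two]; nth_rw 2 [hinv]; exact mul_inv_cancel x
    have h3 := orderOf_dvd_of_pow_eq_one h2
    rw [hx] at h3
    have := Nat.le_of_dvd (by norm_num) h3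
    rcases hp3 with rfl | rfl | rfl <;> omega
  obtain ⟨m, hm⟩ := isConj_iff.1
    (CfsgLib.Recog.J1FromOrder.involutions_conj hcard (g ^ j) (tau T h5) huo (tau_order T h5))
  refine ⟨m * x * m⁻¹, m * g * m⁻¹, k, ?_, ?_, ?_, ?_, ?_⟩
  · rw [← MulAut.conj_apply, MulEquiv.orderOf_eq, hx]
  · rw [← hm, show m * g ^ j * m⁻¹ * (m * x * m⁻¹) * (m * g ^ j * m⁻¹)⁻¹ = m * (g ^ j * x * (g ^ j)⁻¹) * m⁻¹ by
      group, hinv]
    group
  · rw [← hm]
    calc m * g * m⁻¹ * (m * g ^ j * m⁻¹) = m * (g * g ^ j) * m⁻¹ := by group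
      _ = m * (g ^ j * g) * m⁻¹ := by rw [← pow_succ', pow_succ]
      _ = m * g ^ j * m⁻¹ * (m * g * m⁻¹) := by group
  · rw [show m * g * m⁻¹ * (m * x * m⁻¹) * (m * g * m⁻¹)⁻¹ = m * (g * x * g⁻¹) * m⁻¹ by group, hg, conj_pow]
  · intro h1
    have := orderOf_dvd_of_pow_eq_one h1
    rw [hk] at this
    have := Nat.le_of_dvd (by norm_num) this
    omega

theorem exists_ppart [Fact p.Prime] : ∃ (c : G) (A : Subgroup G) (l d : ℕ), PPart p f t c A l d := by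
  classical
  obtain ⟨hs, hcard⟩ := level T h5
  have hp3 := p_mem T h5
  obtain ⟨ξ, γ, k, hξ, hinv, hγ, hsc, hk2⟩ := exists_frame T h5
  set π := QuotientGroup.mk' (Zf f) with hπ
  have htf : t ∈ Cf f := T.t_mem_Cf
  have hτ : tau T h5 = π ⟨t, htf⟩ := rfl
  rw [hτ] at hinv hγ
  have htt : t * t = 1 := by rw [← pow_two, ← h.ord, pow_orderOf_eq_one]
  obtain ⟨c₀, hc₀⟩ := QuotientGroup.mk'_surjective (Zf f) γ
  have hct : (c₀ : G) * t = t * c₀ := T.commute_lift (by rw [hc₀]; exact hγ)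
  have hcf : (c₀ : G) * f = f * c₀ := mem_Cf.1 c₀.2
  set A₀ : Subgroup ↥(Cf f) := (zpowers ξ).comap π with hA₀
  set A := A₀.map (Cf f).subtype with hA
  have hAmem : ∀ {a : G}, a ∈ A ↔ ∃ ha : a ∈ Cf f, π ⟨a, ha⟩ ∈ zpowers ξ := fun {a} =>
    ⟨fun ⟨x, hx, he⟩ => he ▸ ⟨x.2, hx⟩, fun ⟨ha, hx⟩ => ⟨⟨a, ha⟩, hx, rfl⟩⟩
  have hfZ : π ⟨f, mem_Cf.2 rfl⟩ = 1 :=
    (QuotientGroup.eq_one_iff (N := Zf f) _).2 (mem_subgroupOf.2 (mem_zpowers f))
  have hZp : IsPGroup p ↥(Zf f) := IsPGroup.of_card (n := b) (card_Zf T h5)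
  have hA₀p : IsPGroup p ↥A₀ := by
    refine IsPGroup.comap_of_ker_isPGroup ?_ π (by rw [hπ, QuotientGroup.ker_mk']; exact hZp)
    exact IsPGroup.of_card (n := 1) (by rw [Nat.card_zpowers, hξ, pow_one])
  have hAi : ¬ p ∣ A₀.index := by
    rw [hA₀, index_comap_of_surjective _ (QuotientGroup.mk'_surjective _)]
    intro h1
    have h2 := (zpowers ξ).card_mul_index
    rw [Nat.card_zpowers, hξ, hcard] at h2
    obtain ⟨r, hr⟩ := h1
    have h3 : p * p ∣ 175560 := ⟨r, by rw [← h2, hr, mul_assoc]⟩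
    rcases hp3 with rfl | rfl | rfl <;> norm_num at h3
  have hzc : ∀ z ∈ zpowers f, ∀ y : G, y * f = f * y → Commute y z := fun z hz y hy => by
    obtain ⟨i, rfl⟩ := mem_zpowers_iff.1 hz
    exact (show Commute y f from hy).zpow_right i
  have hlift : ∀ {a a' : G} (ha : a ∈ Cf f) (ha' : a' ∈ Cf f), π ⟨a, ha⟩ = π ⟨a', ha'⟩ →
      ∃ z ∈ zpowers f, a * z = a' := fun {a a'} ha ha' e => by
    rw [QuotientGroup.mk'_eq_mk'] at e
    obtain ⟨z, hz, he⟩ := e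
    exact ⟨z, mem_subgroupOf.1 hz, congrArg Subtype.val he⟩
  refine ⟨c₀, A, k, p - 1, ⟨T.p_ne_two, ⟨b, T.pos, T.order⟩, h.ord, mem_Cf.1 htf, hcf, hct, hA₀p.map _, ?_, ?_,
    ?_, ?_, ?_, fun g hg => T.galois.no_fusion T.mem hg, ?_, ?_, ?_, ?_, hk2⟩⟩
  · exact hAmem.2 ⟨mem_Cf.2 rfl, by rw [hfZ]; exact one_mem _⟩
  · -- `A` is abelian
    intro a ha a' ha'
    obtain ⟨haC, hx⟩ := hAmem.1 ha
    obtain ⟨haC', hx'⟩ := hAmem.1 ha'
    obtain ⟨w, hw⟩ := QuotientGroup.mk'_surjective (Zf f) ξ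
    obtain ⟨i, hi⟩ := mem_zpowers_iff.1 hx
    obtain ⟨i', hi'⟩ := mem_zpowers_iff.1 hx'
    rw [← hw, ← map_zpow] at hi hi'
    obtain ⟨z, hz, rfl⟩ := hlift (zpow_mem w.2 i) haC (by rw [← hi]; rfl)
    obtain ⟨z', hz', rfl⟩ := hlift (zpow_mem w.2 i') haC' (by rw [← hi']; rfl)
    have hw' : (w : G) * f = f * w := mem_Cf.1 w.2
    have hwz : ∀ {z : G}, z ∈ zpowers f → ∀ i : ℤ, Commute ((w : G) ^ i) z := fun hz i =>
      (hzc _ hz _ hw').zpow_left i
    exact (((((Commute.refl (w : G)).zpow_left i).zpow_right i').mul_right (hwz hz' i)).mul_left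
      ((hwz hz i').symm.mul_right (hzc z' hz' z (hzc z hz f rfl).symm.eq))).eq
  · -- `t` normalises `A`
    intro a ha
    obtain ⟨haC, hx⟩ := hAmem.1 ha
    refine hAmem.2 ⟨mul_mem (mul_mem htf haC) (inv_mem htf), ?_⟩
    obtain ⟨i, hi⟩ := mem_zpowers_iff.1 hx
    rw [show (⟨t * a * t⁻¹, mul_mem (mul_mem htf haC) (inv_mem htf)⟩ : ↥(Cf f)) =
      ⟨t, htf⟩ * ⟨a, haC⟩ * (⟨t, htf⟩ : ↥(Cf f))⁻¹ from rfl, map_mul, map_mul, map_inv, ← hi, ← conj_zpow, hinv]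
    exact zpow_mem (inv_mem (mem_zpowers ξ)) i
  · -- `A` is a Sylow subgroup of `C(f)`
    intro Q hQ hQf
    obtain ⟨S₂, hS₂⟩ := (hQ.of_equiv (subgroupOfEquivOfLe (show Q ≤ Cf f from fun x hx => mem_Cf.2 (hQf x hx))).symm
      ).exists_le_sylow
    obtain ⟨u, hu⟩ := MulAction.exists_smul_eq ↥(Cf f) S₂ (hA₀p.toSylow hAi)
    refine ⟨u, mem_Cf.1 u.2, fun x hx => hAmem.2 ⟨mul_mem (mul_mem u.2 (mem_Cf.2 (hQf x hx))) (inv_mem u.2), ?_⟩⟩
    have h1 : u * ⟨x, mem_Cf.2 (hQf x hx)⟩ * u⁻¹ ∈ ((u • S₂ : Sylow p ↥(Cf f)) : Subgroup ↥(Cf f)) := by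
      rw [Sylow.coe_subgroup_smul]
      exact Subgroup.smul_mem_pointwise_smul _ _ _ (hS₂ (mem_subgroupOf.2 hx))
    rw [hu, IsPGroup.toSylow_coe] at h1
    exact h1
  · -- the `p`-part of `C(f, t)`
    rintro x hxf hxt ⟨j, hj⟩
    set ζ := π ⟨x, mem_Cf.2 hxf⟩ with hζ
    have hζD : ζ ∈ centralizer ({tau T h5} : Set (Qf f)) := mem_centralizer_singleton_iff.2 (by
      rw [hτ, hζ, ← map_mul, ← map_mul]; exact congrArg π (Subtype.ext hxt))
    have h1 : ζ = 1 := by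
      refine orderOf_eq_one_iff.1 (Nat.eq_one_of_dvd_coprimes (a := p ^ j) (b := 120) (Nat.Coprime.pow_left j ?_) ?_ ?_)
      · rcases hp3 with rfl | rfl | rfl <;> norm_num
      · refine orderOf_dvd_of_pow_eq_one ?_
        rw [hζ, ← map_pow]
        exact (congrArg π (Subtype.ext (by push_cast; exact hj))).trans (map_one π)
      · exact card_cent T h5 ▸ Subgroup.orderOf_dvd_natCard _ hζD
    exact mem_subgroupOf.1 ((QuotientGroup.eq_one_iff (N := Zf f) _).1 h1)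
  · -- the Sylow 2-subgroup of `N(A) ∩ C(f, t)`
    rintro x hxf hxt hxA ⟨j, hj⟩
    set ζ := π ⟨x, mem_Cf.2 hxf⟩ with hζ
    have hζD : ζ ∈ centralizer ({tau T h5} : Set (Qf f)) := mem_centralizer_singleton_iff.2 (by
      rw [hτ, hζ, ← map_mul, ← map_mul]; exact congrArg π (Subtype.ext hxt))
    have hζ8 : ζ ^ 8 = 1 := by
      have h1 : orderOf ζ ∣ 2 ^ j := orderOf_dvd_of_pow_eq_one (by
        rw [hζ, ← map_pow]
        exact (congrArg π (Subtype.ext (by push_cast; exact hj))).trans (map_one π))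
      have h2 : orderOf ζ ∣ 120 := card_cent T h5 ▸ Subgroup.orderOf_dvd_natCard _ hζD
      obtain ⟨i, -, hi⟩ := (Nat.dvd_prime_pow Nat.prime_two).1 h1
      refine orderOf_dvd_iff_pow_eq_one.1 ?_
      rw [hi] at h2 ⊢
      rw [show (8 : ℕ) = 2 ^ 3 by norm_num]
      refine pow_dvd_pow 2 ?_
      by_contra hi3
      have h3 := (pow_dvd_pow 2 (show 4 ≤ i by omega)).trans h2
      norm_num at h3
    obtain ⟨eD⟩ := cent_equiv T h5
    have hζ2 : ζ * ζ = 1 := by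
      have h1 := (CfsgLib.Recog.J1Order.model_two_element (eD ⟨ζ, hζD⟩)).2 (by
        rw [← map_pow, show (⟨ζ, hζD⟩ : ↥(centralizer ({tau T h5} : Set (Qf f)))) ^ 8 = 1 from
          Subtype.ext (by push_cast; exact hζ8), map_one])
      rw [← map_mul, eD.map_eq_one_iff] at h1
      exact congrArg Subtype.val h1
    obtain ⟨a, ha⟩ := QuotientGroup.mk'_surjective (Zf f) ξ
    have haA : (a : G) ∈ A := hAmem.2 ⟨a.2, by
      rw [show π ⟨(a : G), a.2⟩ = ξ from ha]; exact mem_zpowers ξ⟩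
    obtain ⟨hC', hw⟩ := hAmem.1 (hxA _ haA)
    obtain ⟨i, hi⟩ := mem_zpowers_iff.1 hw
    have hζξ : ζ * ξ * ζ⁻¹ = ξ ^ i := by
      rw [hi, hζ, ← ha, ← map_inv, ← map_mul, ← map_mul]
      rfl
    have hi2 : ((i : ZMod p)) ^ 2 = 1 := by
      have h1 : ζ * ζ * ξ * (ζ * ζ)⁻¹ = ξ ^ (i * i) := by
        rw [show ζ * ζ * ξ * (ζ * ζ)⁻¹ = ζ * (ζ * ξ * ζ⁻¹) * ζ⁻¹ by group, hζξ, ← conj_zpow, hζξ, zpow_mul]
      rw [hζ2, one_mul, inv_one, mul_one] at h1
      have h2 : ξ ^ (i * i) = ξ ^ (1 : ℤ) := by rw [← h1, zpow_one]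
      rw [zpow_eq_zpow_iff_modEq, hξ, ← ZMod.intCast_eq_intCast_iff] at h2
      push_cast at h2
      rw [pow_two, h2]
    have hfix1 : ∀ σ : Qf f, σ * σ = 1 → σ * ξ * σ⁻¹ = ξ → σ = 1 := fun σ hσ h1 => by
      have h2 : σ ∈ zpowers ξ :=
        (centralizer_eq (H := Qf f) hcard hp3 hξ) ▸ mem_centralizer_singleton_iff.2 (mul_inv_eq_iff_eq_mul.1 h1)
      refine orderOf_eq_one_iff.1 (Nat.eq_one_of_dvd_coprimes (a := 2) (b := p) ?_
        (orderOf_dvd_of_pow_eq_one (by rw [pow_two, hσ])) (hξ ▸ orderOf_dvd_of_mem_zpowers h2))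
      rcases hp3 with rfl | rfl | rfl <;> norm_num
    have hττ : π ⟨t, htf⟩ * π ⟨t, htf⟩ = 1 := by
      rw [← map_mul]; exact (congrArg π (Subtype.ext htt)).trans (map_one π)
    have hcτ : Commute ζ (π ⟨t, htf⟩) := mem_centralizer_singleton_iff.1 hζD
    have hζτ : ζ = 1 ∨ ζ = π ⟨t, htf⟩ := by
      rcases sq_eq_one_iff.1 hi2 with h1 | h1
      · refine Or.inl (hfix1 ζ hζ2 (hζξ.trans ?_))
        conv_rhs => rw [← zpow_one ξ]
        rw [zpow_eq_zpow_iff_modEq, hξ, ← ZMod.intCast_eq_intCast_iff]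
        simpa using h1
      · refine Or.inr ?_
        have h2 := hfix1 (π ⟨t, htf⟩ * ζ) (by
          rw [show π ⟨t, htf⟩ * ζ * (π ⟨t, htf⟩ * ζ) = π ⟨t, htf⟩ * (ζ * π ⟨t, htf⟩) * ζ by group, hcτ.eq,
            ← mul_assoc, hττ, one_mul, hζ2]) (by
          rw [show π ⟨t, htf⟩ * ζ * ξ * (π ⟨t, htf⟩ * ζ)⁻¹ = π ⟨t, htf⟩ * (ζ * ξ * ζ⁻¹) * (π ⟨t, htf⟩)⁻¹ by group,
            hζξ, show ξ ^ i = ξ⁻¹ from by
              rw [← zpow_neg_one, zpow_eq_zpow_iff_modEq, hξ, ← ZMod.intCast_eq_intCast_iff]; simpa using h1,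
            ← conj_inv, hinv, inv_inv])
        rw [mul_eq_one_iff_eq_inv] at h2
        rw [← inv_inv ζ, ← h2]
        exact inv_eq_of_mul_eq_one_right hττ
    have hmem : ∃ i : ℤ, π ((⟨t, htf⟩ : ↥(Cf f)) ^ i) = ζ := by
      rcases hζτ with e | e
      · exact ⟨0, by rw [zpow_zero, map_one, e]⟩
      · exact ⟨1, by rw [zpow_one, e]⟩
    obtain ⟨i, hi'⟩ := hmem
    obtain ⟨z, hz, he⟩ := hlift (zpow_mem htf i) (mem_Cf.2 hxf) (by rw [← hζ, ← hi']; rfl)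
    have hc : Commute (t ^ i) z := (hzc z hz t (mem_Cf.1 htf)).zpow_left i
    have hz1 : z = 1 := by
      have hti : (t ^ i) ^ 2 ^ (j + 1) = 1 := by
        rw [← zpow_natCast, ← zpow_mul, mul_comm, zpow_mul, zpow_natCast, pow_succ', pow_mul,
          pow_two, htt, one_pow, one_zpow]
      have h3 : z ^ 2 ^ (j + 1) = 1 := by
        have h4 : x ^ 2 ^ (j + 1) = 1 := by rw [pow_succ, pow_mul, hj, one_pow]
        rwa [← he, hc.mul_pow, hti, one_mul] at h4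
      exact orderOf_eq_one_iff.1 (Nat.eq_one_of_dvd_coprimes
        ((Nat.coprime_two_left.2 T.odd_order).pow_left (j + 1)) (orderOf_dvd_of_pow_eq_one h3)
        (T.order ▸ orderOf_dvd_of_mem_zpowers hz))
    exact ⟨i, by rw [← he, hz1, mul_one]⟩
  · -- `c` is the `k`-th power on inverted elements
    intro a ha hat
    obtain ⟨haC, hx⟩ := hAmem.1 ha
    obtain ⟨i, hi⟩ := mem_zpowers_iff.1 hx
    obtain ⟨z, hz, he⟩ := hlift (pow_mem haC k) (mul_mem (mul_mem c₀.2 haC) (inv_mem c₀.2)) (by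
      rw [show (⟨a ^ k, pow_mem haC k⟩ : ↥(Cf f)) = ⟨a, haC⟩ ^ k from rfl,
        show (⟨(c₀ : G) * a * (c₀ : G)⁻¹, mul_mem (mul_mem c₀.2 haC) (inv_mem c₀.2)⟩ : ↥(Cf f)) =
          c₀ * ⟨a, haC⟩ * c₀⁻¹ from rfl, map_mul, map_mul, map_inv, map_pow, ← hi, hc₀, ← conj_zpow, hsc,
        ← zpow_natCast, ← zpow_mul, ← zpow_natCast, ← zpow_mul, mul_comm])
    have h1 : Commute t z := hzc z hz t (mem_Cf.1 htf)
    have h2 : t * ((c₀ : G) * a * (c₀ : G)⁻¹) * t⁻¹ = ((c₀ : G) * a * (c₀ : G)⁻¹)⁻¹ := by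
      calc t * ((c₀ : G) * a * (c₀ : G)⁻¹) * t⁻¹ = (t * c₀) * a * ((c₀ : G)⁻¹ * t⁻¹) := by group
        _ = ((c₀ : G) * t) * a * (((c₀ : G) * t)⁻¹) := by rw [← mul_inv_rev, hct]
        _ = (c₀ : G) * (t * a * t⁻¹) * (c₀ : G)⁻¹ := by group
        _ = _ := by rw [hat]; group
    rw [← he] at h2 ⊢
    have h4 : Commute (a ^ k) z := (hzc z hz a (mem_Cf.1 haC)).pow_left k
    rw [show t * (a ^ k * z) * t⁻¹ = (t * a ^ k * t⁻¹) * (t * z * t⁻¹) by group, ← conj_pow, hat,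
      h1.eq, mul_inv_cancel_right, h4.mul_inv, inv_pow] at h2
    have h5 : z = z⁻¹ := mul_left_cancel h2
    have hz1 : z = 1 := orderOf_eq_one_iff.1 (Nat.eq_one_of_dvd_coprimes (Nat.coprime_two_left.2 T.odd_order)
      (orderOf_dvd_of_pow_eq_one (by rw [pow_two]; exact mul_eq_one_iff_eq_inv.2 h5))
      (T.order ▸ orderOf_dvd_of_mem_zpowers hz))
    rw [hz1, mul_one]
  · intro hd
    have := Nat.le_of_dvd (by rcases hp3 with rfl | rfl | rfl <;> norm_num) hd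
    omega
  · refine ZMod.pow_card_sub_one_eq_one fun h0 => hk2 ?_
    exfalso
    have h1 := hsc
    obtain ⟨r, hr⟩ := (ZMod.natCast_eq_zero_iff _ _).1 h0
    rw [hr, pow_mul, ← hξ, pow_orderOf_eq_one, one_pow, conj_eq_one_iff] at h1
    rw [h1, orderOf_one] at hξ
    exact T.prime.ne_one hξ.symm

end CfsgLib.Walter.Field.Five

namespace CfsgLib.Walter.Field

universe u

/-- **`StepFive`.** -/
theorem stepFive : StepFive.{u} := by
  intro G _ _ t E L F _ _ h Φ s₁ s₂ p b f F₀ _ _ T h5 _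
  haveI : Fact p.Prime := ⟨T.prime⟩
  obtain ⟨c, A, l, d, hpp⟩ := Five.exists_ppart T h5
  obtain ⟨φ, hφ⟩ := pPartStatement G p f t c A l d hpp
  haveI := h.simple
  rcases (inferInstance : φ.ker.Normal).eq_bot_or_eq_top with e | e
  · exact h.not_comm ⟨⟨fun x y => (MonoidHom.ker_eq_bot_iff φ).1 e (by rw [map_mul, map_mul, mul_comm])⟩⟩
  · exact hφ (MonoidHom.mem_ker.1 (e ▸ Subgroup.mem_top f))

end CfsgLib.Walter.Field
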